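import Groth.Agent.AlgSt.K741.QcqsS
import Groth.Agent.AlgSt.K739.DiagComp
import Groth.Agent.AlgSt.K738.RepDiag
import Groth.Agent.ThetaS.K943.SpLft

/-!
# Stacks quasi-separated over a quasi-separated algebraic space are quasi-separated

* `isQuasiSeparatedOver_ofSp`: the category of a quasi-separated algebraic space is quasi-separated over the base;
* `isQuasiSeparatedOver_of_mor`: `𝒳` is quasi-separated over `S` when `π : 𝒳 ⟶ M` and `M` are.
-/

set_option autoImplicit false
set_option linter.unusedVariables false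
set_option linter.style.haveILetI false
set_option backward.isDefEq.respectTransparency false
set_option backward.isDefEq.respectTransparency.types false

universe w v u

open CategoryTheory CategoryTheory.Limits AlgebraicGeometry Opposite AlgSt AlgSp

namespace K563.QsDiag

open K739.Props

variable {S : Scheme.{u}}

/-- Absolute and relative quasi-separatedness. -/
theorem isQuasiSeparatedMor_of_sp {M N : Sp S} (hq : IsQuasiSeparatedSp M) (t : M ⟶ N) :
    AlgSp.IsQuasiSeparatedMor t := by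
  refine (K613.Diag.repWith_diagonal_iff @QuasiCompact t).2 fun T a b _ => ?_
  exact (K613.Chart.repWith_diag_iff @QuasiCompact).1 hq T a b

theorem repByAlgSpWith_qs {M : Sp S} (hM : IsAlgSpace M) (hq : IsQuasiSeparatedSp M) {N : Sp S} (hN : IsAlgSpace N)
    (t : M ⟶ N) : RepByAlgSpWith AlgSp.IsQuasiSeparatedMor (ofSpMap t) := by
  have hst := K595.DiagRel.isQuasiSeparatedMor_isStableUnderBaseChange (S := S)
  rw [K735.SpFp.repByAlgSpWith_ofSpMap_iff]
  intro T P g fst snd sq
  have hP : IsAlgSpace P := K613.Chart.isAlgSpace_of_isPullback hN.diag (IsAlgSpace.yon_obj T) hM sq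
  exact ⟨hP, hst.of_isPullback sq.flip (isQuasiSeparatedMor_of_sp hq t)⟩

theorem qcqs_of_diag {P : Sp S} {T : Over S} {π : P ⟶ (yon S).obj T} (h : AlgSp.IsQuasiSeparatedMor π) {U : Over S}
    {i : U ⟶ T} {fst : (yon S).obj U ⟶ P} {g : (yon S).obj T ⟶ pullback π π}
    (sq : IsPullback fst ((yon S).map i) (pullback.diagonal π) g) (hi : Mono i) :
    (AlgSp.IsQuasiCompactMor ⊓ AlgSp.IsQuasiSeparatedMor : MorphismProperty (Sp S)) ((yon S).map i) := by
  have h1 : QuasiCompact i.left := h.2 _ _ _ sq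
  have h2 : Mono i.left := K595.DiagAlg.mono_left i
  have h3 : RepWith @QuasiCompact ((yon S).map i) := (repWith_yon_map_iff _ i).2 h1
  refine ⟨K596.QC.isQuasiCompactMor_of_repWith h3, ?_⟩
  have h4 : RepWith @QuasiSeparated ((yon S).map i) := (repWith_yon_map_iff _ i).2 inferInstance
  exact (K595.DiagBasic.isQuasiSeparatedMor_iff_repWith h4.1).2 h4

theorem repByAlgSpWith_toSelf {M : Sp S} (hM : IsAlgSpace M) (hq : IsQuasiSeparatedSp M) :
    RepByAlgSpWith AlgSp.IsQuasiSeparatedMor (FibCat.toSelf (ofSp M)) := by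
  let t : M ⟶ K943.SpLft.pt S := (K596.QC2.isTerminalYon S).from M
  exact (K735.Rep.repByAlgSpWith_iff_of_sq _ (FibCat.toSelf (ofSp M)) (ofSpMap t) (BasedFunctor.id _)
    (FibCat.toSelf (ofSp (K943.SpLft.pt S))) K735.Fib.isEquivOver_id (K943.SpLft.isEquivOver_pt S)
    (eqToIso (by rw [K738.Lft.comp_toSelf (ofSpMap t),
      K738.Lft.comp_toSelf (BasedFunctor.id (ofSp M))]))).2 (repByAlgSpWith_qs hM hq (IsAlgSpace.yon_obj _) t)

/-- The category of a quasi-separated algebraic space is quasi-separated over the base. -/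
theorem isQuasiSeparatedOver_ofSp {M : Sp S} (hM : IsAlgSpace M) (hq : IsQuasiSeparatedSp M) :
    AlgSt.IsQuasiSeparatedOver (ofSp M) :=
  K738.repByAlgSpWith_diag (repByAlgSpWith_toSelf hM hq) fun π i fst g hπ sq hi => qcqs_of_diag hπ sq hi

/-- A stack quasi-separated over a quasi-separated algebraic space is quasi-separated. -/
theorem isQuasiSeparatedOver_of_mor {𝒳 : AlgSt.Cat S} (h𝒳 : IsAlgStack Scheme.fppfPrecoverage 𝒳) {M : Sp S}
    (hM : IsAlgSpace M) (hq : IsQuasiSeparatedSp M) (π : 𝒳 ⥤ᵇ ofSp M) (hπ : AlgSt.IsQuasiSeparatedMor π) :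
    AlgSt.IsQuasiSeparatedOver 𝒳 := by
  have h := K739.DiagComp.repByAlgSpWith_diag_comp h𝒳.isStack.1 (K735.Rep.isFibGrpd_ofSp M)
    K735.Fp.isFibGrpd_selfOver π (FibCat.toSelf (ofSp M)) bc_qcqs comp_qcqs fppfDesc_qcqs.etDesc hπ
    (isQuasiSeparatedOver_ofSp hM hq)
  rwa [K738.Lft.comp_toSelf π] at h

theorem diag_isQuasiCompactMor {𝒳 : AlgSt.Cat S} (h𝒳 : IsAlgStack Scheme.fppfPrecoverage 𝒳) {M : Sp S}
    (hM : IsAlgSpace M) (hq : IsQuasiSeparatedSp M) (π : 𝒳 ⥤ᵇ ofSp M) (hπ : AlgSt.IsQuasiSeparatedMor π) :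
    RepByAlgSpWith AlgSp.IsQuasiCompactMor (FibCat.diag (FibCat.toSelf 𝒳)) :=
  K739.Alg.repByAlgSpWith_mono (fun _ _ _ h => h.1) (isQuasiSeparatedOver_of_mor h𝒳 hM hq π hπ)

end K563.QsDiag
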