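import Groth.Agent.StMod.K563.ClosedPtSp
import Groth.Agent.StMod.K563.QsDiag
import Groth.Agent.StMod.K907.GoodFp
import Groth.Agent.StMod.K907.Noeth
import Groth.Agent.AlgSt.K736.Spectral

/-!
# Closed points of locally Noetherian stacks with a good moduli space

* `exists_closed_locNoeth` (N9): `𝒳` a locally Noetherian algebraic stack with a quasi-compact quasi-separated good moduli
  space quasi-separated over the base: every nonempty closed subset of `|𝒳|` contains a closed point.
-/

set_option autoImplicit false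
set_option linter.unusedVariables false
set_option linter.style.haveILetI false
set_option backward.isDefEq.respectTransparency false
set_option backward.isDefEq.respectTransparency.types false

universe w v u

open CategoryTheory CategoryTheory.Limits AlgebraicGeometry Opposite StMod AlgSt AlgSp

namespace K563.ClosedLN

open K735.PtsSp K735.Pts K735.Top

variable {S : Scheme.{u}} [QuasiSeparatedSpace S] {𝒳 : AlgSt.Cat S} (h𝒳 : IsAlgStack Scheme.fppfPrecoverage 𝒳)
  (M : Space S) (hM : IsQuasiSeparatedSp M.obj) (π : 𝒳 ⥤ᵇ ofSp M.obj)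
  (hqc : IsQuasiCompactMor Scheme.fppfPrecoverage π) (hqs : IsQuasiSeparatedMor π)

include h𝒳 hM hqc hqs in
/-- Good moduli spaces are closed maps on points. -/
theorem isClosedMap (h : IsGoodModuli π) : IsClosedMap (Points.map π) := by
  have h𝒴 := K740.SpDM.isAlgStack_ofSp M.property
  have h1 := K907.GoodFp.isUnivClosed h𝒳 M hM π hqc hqs h _ h𝒴 (BasedFunctor.id _)
  intro W hW
  have h2 : IsClosed (Points.map (FibCat.fpSnd (BasedFunctor.id (ofSp M.obj)) π) ⁻¹' W) :=
    hW.preimage (continuous_map (chartCont_of_isAlgStack h𝒳) _)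
  have h3 := h1 _ h2
  convert h3 using 1
  ext m
  constructor
  · rintro ⟨x, hx, rfl⟩
    obtain ⟨w, hw1, hw2⟩ := exists_fp h𝒳.isStack.1 h𝒴.isStack.1 h𝒴.isStack.1 (BasedFunctor.id (ofSp M.obj)) π
      (Points.map π x) x (map_id _)
    exact ⟨w, by rw [Set.mem_preimage, hw2]; exact hx, hw1⟩
  · rintro ⟨w, hw, rfl⟩
    refine ⟨_, hw, ?_⟩
    rw [← map_comp, ← map_congr (FibCat.fpIso (BasedFunctor.id (ofSp M.obj)) π) w, map_comp, map_id]

include h𝒳 hqc in
/-- The preimage of a point of the good moduli space is contained in a quasi-compact subset. -/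
theorem exists_compact (m : Points (ofSp M.obj)) : ∃ K : Set (Points 𝒳), IsCompact K ∧ Points.map π ⁻¹' {m} ⊆ K := by
  have h𝒴 := K740.SpDM.isAlgStack_ofSp M.property
  obtain ⟨T, hT, v, z, rfl⟩ := K907.GoodFp.exists_eq_map h𝒴.isStack.1 m
  have hA := K744.AlgOver.isAlgStack_overCat T
  have hfp := K907.GoodFp.isAlgStack_fp h𝒳 M π hA v
  have h1 := hqc _ hA (K906.isQuasiCompact_overCat hT) v
  haveI : CompactSpace (Points (FibCat.fp v π)) := (K736.QC.isQuasiCompact_iff hfp).1 h1
  refine ⟨Set.range (Points.map (FibCat.fpSnd v π)),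
    isCompact_range (continuous_map (chartCont_of_isAlgStack h𝒳) _), ?_⟩
  intro x hx
  obtain ⟨w, -, hw⟩ := exists_fp h𝒳.isStack.1 hA.isStack.1 h𝒴.isStack.1 v π z x (Set.mem_singleton_iff.1 hx).symm
  exact ⟨w, hw⟩

include h𝒳 hM hqc hqs in
/-- (N9) Closed points. -/
theorem exists_closed_locNoeth (hN : SmoothLocally (fun T => IsLocallyNoetherian T) 𝒳) (h : IsGoodModuli π)
    (W : Set (Points 𝒳)) (hW : IsClosed W) (hne : W.Nonempty) : ∃ x ∈ W, IsClosed ({x} : Set (Points 𝒳)) := by
  have h𝒴 := K740.SpDM.isAlgStack_ofSp M.property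
  have hNM : IsLocNoethSp M.obj := K907.GM.isLocNoethSp_of M.property fun E hE => by
    obtain ⟨hex, ⟨P⟩⟩ := K907.GM.exact_and_pres h𝒳 hM hqc hqs h.1 E hE
    exact K907.GM.isNoetherianRing_of_unitIsIso h𝒳 E hN P h.2 hex
  -- a closed point of the image
  have h1 : IsClosed (Points.map π '' W) := isClosedMap h𝒳 M hM π hqc hqs h W hW
  have h2 : IsClosed ((ptsHomeo M.property) '' (Points.map π '' W)) := (ptsHomeo M.property).isClosedMap _ h1
  obtain ⟨m, ⟨m', hm', rfl⟩, hm⟩ := ClosedPtSp.exists_closed_points M.property hM hNM h2 ((hne.image _).image _)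
  have h3 : IsClosed ({m'} : Set (Points (ofSp M.obj))) := by
    have h4 := hm.preimage (ptsHomeo M.property).continuous
    have h5 : (ptsHomeo M.property) ⁻¹' {(ptsHomeo M.property) m'} = {m'} := by
      ext y
      simp
    rwa [h5] at h4
  obtain ⟨x, hx, hxm⟩ := hm'
  -- the part of `W` over it
  have h6 : IsClosed (Points.map π ⁻¹' {m'}) := h3.preimage (continuous_map (chartCont_of_isAlgStack h𝒴) _)
  obtain ⟨K, hK, hKm⟩ := exists_compact h𝒳 M π hqc m'
  have h7 : IsCompact (W ∩ Points.map π ⁻¹' {m'}) :=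
    hK.of_isClosed_subset (hW.inter h6) (Set.inter_subset_right.trans hKm)
  haveI : T0Space (Points 𝒳) := (K736.Spectral.sober h𝒳 (QsDiag.diag_isQuasiCompactMor h𝒳 M.property hM π hqs)).2
  obtain ⟨y, hy, hyc⟩ := ClosedPtSp.exists_closed_in_compact h7 ⟨x, hx, hxm⟩
  refine ⟨y, hy.1, ?_⟩
  rw [← closure_eq_iff_isClosed]
  refine Set.Subset.antisymm (fun z hz => ?_) subset_closure
  have hyz : y ⤳ z := specializes_iff_mem_closure.2 hz
  exact hyc z (hyz.mem_closed (hW.inter h6) hy) hyz

end K563.ClosedLN
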