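import Groth.Agent.StMod.K563.QsDiag
import Groth.Agent.StMod.K862.LevCl
import Groth.Agent.StMod.K907.ClosedFn
import Groth.Agent.StMod.K907.HasCov
import Groth.Agent.AlgSp.K634.FiniteMor
import Groth.Agent.AlgSt.K736.Spectral

/-!
# Closed points under finite morphisms of spaces, closed points of quasi-compact stacks

* `isRep_finite`, `isRep_qfSep` : finite morphisms of spaces have universal arrows with finite structure morphism;
* `isCl_of_finite` (E) : a point over a closed point under a finite morphism of quasi-separated spaces is closed;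
* `exists_closed_qc` (I) : closed subsets of quasi-compact stacks with quasi-compact diagonal have closed points.
-/

set_option autoImplicit false
set_option linter.unusedVariables false
set_option linter.style.haveILetI false
set_option backward.isDefEq.respectTransparency false
set_option backward.isDefEq.respectTransparency.types false

universe w v u

open CategoryTheory CategoryTheory.Limits AlgebraicGeometry Opposite StMod AlgSt AlgSp

namespace K563.FinCl

open K906 K862.Rep K862.Over K907.Closed K907.Pt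

variable {S : Scheme.{u}}

theorem repByAlgSpWith_finite {M' M : Space S} (g : M'.obj ⟶ M.obj) (hg : AlgSp.IsFiniteMor g) :
    RepByAlgSpWith (RepWith @IsFinite) (ofSpMap g) := by
  have h1 : RepWith @IsFinite g := K634.FiniteMor.isFiniteMor_iff.1 hg
  rw [K735.SpFp.repByAlgSpWith_ofSpMap_iff]
  intro T P t fst snd sq
  exact ⟨K613.Chart.isAlgSpace_of_isPullback M.property.diag (IsAlgSpace.yon_obj T) M'.property sq,
    MorphismProperty.of_isPullback (P := RepWith @IsFinite) sq.flip h1⟩

theorem isRep_finite {M' M : Space S} (g : M'.obj ⟶ M.obj) (hg : AlgSp.IsFiniteMor g) :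
    IsRep @IsFinite (ofSpMap g) := fun ξ _ =>
  K907.ClosedFn.exists_isTerm_prop (K735.Rep.isFibGrpd_ofSp M.obj) (ofSpMap g) (repByAlgSpWith_finite g hg) ξ

theorem finite_le_qfSep : (@IsFinite : MorphismProperty Scheme.{u}) ≤ QfSep := fun _ _ f (hf : IsFinite f) =>
  ⟨⟨inferInstance, inferInstance⟩, ⟨inferInstance, inferInstance⟩⟩

/-- (E) a point over a closed point under a finite morphism of spaces is closed. -/
theorem isCl_of_finite [QuasiSeparatedSpace S] {M' M : Space S} (hM : IsQuasiSeparatedSp M.obj)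
    (g : M'.obj ⟶ M.obj) (hg : AlgSp.IsFiniteMor g) (y : AlgSt.Points (ofSp M'.obj))
    (hy : IsClosed ({AlgSt.Points.map (ofSpMap g) y} : Set (AlgSt.Points (ofSp M.obj)))) :
    IsClosed ({y} : Set (AlgSt.Points (ofSp M'.obj))) := by
  have h𝒳 := K740.SpDM.isAlgStack_ofSp M.property
  have h𝒴 := K740.SpDM.isAlgStack_ofSp M'.property
  have hd : RepByAlgSpWith AlgSp.IsQuasiCompactMor (FibCat.diag (FibCat.toSelf (ofSp M.obj))) :=
    K739.Alg.repByAlgSpWith_mono (fun _ _ _ h => h.1) (QsDiag.isQuasiSeparatedOver_ofSp M.property hM)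
  obtain ⟨A⟩ := nonempty_smAtlas h𝒳.isStack.1 h𝒳.atlas
  have h1 := K862.LevCl.isCl_over' h𝒳.isStack.1 h𝒴.isStack.1 A
    (fun j => K862.LevCl.exists_rel h𝒳.isStack.1 A hd j) ((isRep_finite g hg).mono finite_le_qfSep)
    (x := AlgSt.Points.map (ofSpMap g) y) (K907.Rows.isCl_of_isClosed h𝒳.isStack.1 (K735.Top.chartCont_of_isAlgStack h𝒳) hy) {y} (by
      rintro d rfl
      rfl)
  exact K862.LevCl.isClosed_of_isCl h𝒴.isStack.1 h1

/-- (I) closed points of quasi-compact stacks with quasi-compact diagonal. -/
theorem exists_closed_qc [QuasiSeparatedSpace S] {𝒳 : AlgSt.Cat S} (h𝒳 : AlgSt.IsAlgStack Scheme.fppfPrecoverage 𝒳)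
    (hq : AlgSt.IsQuasiCompact 𝒳) (hd : AlgSt.RepByAlgSpWith AlgSp.IsQuasiCompactMor (FibCat.diag (FibCat.toSelf 𝒳)))
    (W : Set (AlgSt.Points 𝒳)) (hW : IsClosed W) (hne : W.Nonempty) :
    ∃ x ∈ W, IsClosed ({x} : Set (AlgSt.Points 𝒳)) := by
  haveI := K736.Spectral.spectralSpace_points h𝒳 hq hd
  exact hW.exists_closed_singleton hne

end K563.FinCl
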