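import Groth.Agent.AlgSp.K620.Constr
import Groth.Agent.AlgSp.K621.Punct

/-!
# Closed points of locally Noetherian algebraic spaces

* `exists_closed_of_punct`: a `T0` space with a basis of compact opens such that the proper generizations of every point
  form a Jacobson space has a closed point in every nonempty closed subset;
* `exists_closed_points`: every nonempty closed subset of `|X|`, `X` a quasi-separated locally Noetherian algebraic space,
  contains a closed point.
-/

set_option autoImplicit false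
universe u
open CategoryTheory CategoryTheory.Limits AlgebraicGeometry Opposite Topology TopologicalSpace
open AlgSp

namespace K563.ClosedPtSp

section Top

variable {X : Type*} [TopologicalSpace X]

/-- A nonempty compact subset of a `T0` space has a point which is closed in it. -/
theorem exists_closed_in_compact [T0Space X] {K : Set X} (hK : IsCompact K) (hne : K.Nonempty) :
    ∃ x ∈ K, ∀ y ∈ K, x ⤳ y → y = x := by
  have h1 : CompactSpace ↥K := isCompact_iff_compactSpace.1 hK
  obtain ⟨⟨x, hx⟩, -, hc⟩ := IsClosed.exists_closed_singleton (X := ↥K) isClosed_univ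
    ⟨⟨hne.some, hne.some_mem⟩, trivial⟩
  refine ⟨x, hx, fun y hy h => ?_⟩
  have h2 : (⟨x, hx⟩ : ↥K) ⤳ ⟨y, hy⟩ := (subtype_specializes_iff _ _).2 h
  have h3 := h2.mem_closed hc rfl
  exact congrArg Subtype.val h3

theorem exists_closed_of_punct [T0Space X] [PrespectralSpace X]
    (h : ∀ x : X, JacobsonSpace {x' : X // x' ⤳ x ∧ x' ≠ x}) {W : Set X} (hW : IsClosed W) (hne : W.Nonempty) :
    ∃ x ∈ W, IsClosed ({x} : Set X) := by
  obtain ⟨x₀, hx₀⟩ := hne
  obtain ⟨V, ⟨hVo, hVc⟩, hxV, -⟩ := (PrespectralSpace.isTopologicalBasis (X := X)).exists_subset_of_mem_open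
    (Set.mem_univ x₀) isOpen_univ
  obtain ⟨x, ⟨hxV, hxW⟩, hx⟩ := exists_closed_in_compact (hVc.inter_right hW) ⟨x₀, hxV, hx₀⟩
  -- `x` is closed in `V ∩ W`
  by_cases hcl : IsClosed ({x} : Set X)
  · exact ⟨x, hxW, hcl⟩
  have h1 : closure ({x} : Set X) ≠ {x} := fun e => hcl (closure_eq_iff_isClosed.1 e)
  obtain ⟨y, hy, hyx⟩ : ∃ y ∈ closure ({x} : Set X), y ≠ x := by
    by_contra hcon
    push Not at hcon
    exact h1 (Set.Subset.antisymm (fun y hy => hcon y hy) subset_closure)
  have hxy : x ⤳ y := specializes_iff_mem_closure.2 hy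
  have hyW : y ∈ W := hxy.mem_closed hW hxW
  refine ⟨y, hyW, ?_⟩
  rw [← closure_eq_iff_isClosed]
  refine Set.Subset.antisymm (fun z hz => ?_) subset_closure
  by_contra hzy
  have hyz : y ⤳ z := specializes_iff_mem_closure.2 hz
  have hxz : x ⤳ z := hxy.trans hyz
  have hxz' : x ≠ z := by
    rintro rfl
    exact hzy (hxy.antisymm hyz).eq
  have hyz' : y ≠ z := fun e => hzy e.symm
  have := h z
  let x' : {x' : X // x' ⤳ z ∧ x' ≠ z} := ⟨x, hxz, hxz'⟩
  let y' : {x' : X // x' ⤳ z ∧ x' ≠ z} := ⟨y, hyz, hyz'⟩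
  have h2 : IsLocallyClosed ({x} : Set X) := by
    refine ⟨V, closure {x}, hVo, isClosed_closure, ?_⟩
    refine Set.Subset.antisymm ?_ ?_
    · rintro _ rfl
      exact ⟨hxV, subset_closure rfl⟩
    · rintro w ⟨hwV, hw⟩
      have hxw : x ⤳ w := specializes_iff_mem_closure.2 hw
      exact hx w ⟨hwV, hxw.mem_closed hW hxW⟩ hxw
  have h3 : IsLocallyClosed ({x'} : Set {x' : X // x' ⤳ z ∧ x' ≠ z}) := by
    have h4 : ({x'} : Set {x' : X // x' ⤳ z ∧ x' ≠ z}) = Subtype.val ⁻¹' {x} := by
      ext w
      exact ⟨fun e => congrArg Subtype.val e, fun e => Subtype.ext e⟩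
    rw [h4]
    exact h2.preimage continuous_subtype_val
  have h5 : IsClosed ({x'} : Set {x' : X // x' ⤳ z ∧ x' ≠ z}) := by
    have := nonempty_inter_closedPoints (X := {x' : X // x' ⤳ z ∧ x' ≠ z}) (Z := {x'}) ⟨x', rfl⟩ h3
    obtain ⟨c, hc, hc'⟩ := this
    obtain rfl := Set.mem_singleton_iff.1 hc
    exact hc'
  have h6 : x' ⤳ y' := (subtype_specializes_iff _ _).2 hxy
  have h7 : y' = x' := h6.mem_closed h5 rfl
  exact hyx (congrArg Subtype.val h7)

end Top

variable {S : Scheme.{u}} [QuasiSeparatedSpace ↥S]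

/-- Closed points of quasi-separated locally Noetherian algebraic spaces. -/
theorem exists_closed_points {X : Sp S} (hX : IsAlgSpace X) (hq : IsQuasiSeparatedSp X) (hN : IsLocNoethSp X)
    {W : Set (Points X)} (hW : IsClosed W) (hne : W.Nonempty) : ∃ x ∈ W, IsClosed ({x} : Set (Points X)) := by
  have h1 : ∀ x, K621.Decent.FinFibres X x := by
    intro x
    obtain ⟨p, rfl⟩ := Quotient.exists_rep x
    have : CompactSpace ↥p.pt.left := inferInstanceAs (CompactSpace ↥(Spec (CommRingCat.of p.K)))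
    exact K621.Decent.QCPoint.finFibres ⟨p, rfl, K620.Constr.repWith_quasiCompact hX hq p.toHom⟩
  have := K620.Constr.t0Space_points hX hq
  have := K620.Constr.prespectralSpace_points hX
  exact exists_closed_of_punct (fun x => (K621.Punct.punct hX h1 hN x).2.2.2) hW hne

end K563.ClosedPtSp
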