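import Mathlib
import Groth.Agent.Ega1.ReducedSub
import Groth.Agent.Etcore.SmoothRed

/-!
Relative normalization and smooth groupoids: base change of the normalization along a smooth morphism
as a cartesian square, and closedness of the image of an invariant subset of the fibre locus over an
irreducible orbit closure.
-/

set_option backward.isDefEq.respectTransparency false
set_option backward.isDefEq.respectTransparency.types false
set_option autoImplicit false

open CategoryTheory Limits AlgebraicGeometry TopologicalSpace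

universe u

namespace K563.NormCl

/-- Normalization commutes with smooth base change, as a cartesian square. -/
theorem exists_isPullback {V U VR R : Scheme.{u}} (f : V ⟶ U) [QuasiCompact f] [QuasiSeparated f]
    (s : R ⟶ U) [Smooth s] (r : VR ⟶ R) [QuasiCompact r] [QuasiSeparated r] (a : VR ⟶ V)
    (ha : IsPullback a r f s) :
    ∃ c : r.normalization ⟶ f.normalization,
      IsPullback c r.fromNormalization f.fromNormalization s ∧
      r.toNormalization ≫ c = a ≫ f.toNormalization := by
  have he1 : ha.isoPullback.hom ≫ pullback.fst f s = a := ha.isoPullback_hom_fst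
  have he2 : ha.isoPullback.hom ≫ pullback.snd f s = r := ha.isoPullback_hom_snd
  have he3 : ha.isoPullback.inv ≫ r = pullback.snd f s := ha.isoPullback_inv_snd
  have e1 : r = (ha.isoPullback.hom ≫ (pullback.snd f s).toNormalization) ≫
      (pullback.snd f s).fromNormalization := by simp [he2]
  have e2 : pullback.snd f s = (ha.isoPullback.inv ≫ r.toNormalization) ≫ r.fromNormalization := by
    simp [he3]
  let c' := r.normalizationDesc _ _ e1
  let d' := (pullback.snd f s).normalizationDesc _ _ e2
  have hc1 : r.toNormalization ≫ c' = ha.isoPullback.hom ≫ (pullback.snd f s).toNormalization :=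
    r.toNormalization_normalizationDesc _ _ e1
  have hc2 : c' ≫ (pullback.snd f s).fromNormalization = r.fromNormalization :=
    r.normalizationDesc_comp _ _ e1
  have hd1 : (pullback.snd f s).toNormalization ≫ d' = ha.isoPullback.inv ≫ r.toNormalization :=
    (pullback.snd f s).toNormalization_normalizationDesc _ _ e2
  have hd2 : d' ≫ r.fromNormalization = (pullback.snd f s).fromNormalization :=
    (pullback.snd f s).normalizationDesc_comp _ _ e2
  have hcd : c' ≫ d' = 𝟙 _ := by
    refine Scheme.Hom.normalization.hom_ext r _ _ r.fromNormalization ?_ ?_ ?_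
    · rw [reassoc_of% hc1, hd1, Iso.hom_inv_id_assoc, Category.comp_id]
    · rw [Category.assoc, hd2, hc2]
    · rw [Category.id_comp]
  have hdc : d' ≫ c' = 𝟙 _ := by
    refine Scheme.Hom.normalization.hom_ext _ _ _ (pullback.snd f s).fromNormalization ?_ ?_ ?_
    · rw [reassoc_of% hd1, hc1, Iso.inv_hom_id_assoc, Category.comp_id]
    · rw [Category.assoc, hc2, hd2]
    · rw [Category.id_comp]
  let E : r.normalization ≅ pullback f.fromNormalization s :=
    (⟨c', d', hcd, hdc⟩ : r.normalization ≅ (pullback.snd f s).normalization) ≪≫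
      asIso (f.normalizationPullback s)
  refine ⟨E.hom ≫ pullback.fst _ _, ?_, ?_⟩
  · refine IsPullback.of_iso (IsPullback.of_hasPullback f.fromNormalization s) E.symm (Iso.refl _)
      (Iso.refl _) (Iso.refl _) (by simp) ?_ (by simp) (by simp)
    simp only [Iso.symm_hom, Iso.refl_hom, Category.comp_id]
    rw [Iso.eq_inv_comp]
    simp only [E, Iso.trans_hom, asIso_hom, Category.assoc,
      Scheme.Hom.normalizationPullback_snd]
    exact hc2
  · simp only [E, Iso.trans_hom, asIso_hom, Category.assoc]
    rw [reassoc_of% hc1, Scheme.Hom.toNormalization_normalizationPullback_fst, reassoc_of% he1]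

/-- For a cartesian square, a point of the base change over given points. -/
theorem exists_point {P X Y Z : Scheme.{u}} {fst : P ⟶ X} {snd : P ⟶ Y} {f : X ⟶ Z} {g : Y ⟶ Z}
    (h : IsPullback fst snd f g) (x : X) (y : Y) (hxy : f x = g y) : ∃ p : P, fst p = x ∧ snd p = y := by
  obtain ⟨q, hq1, hq2⟩ := Scheme.Pullback.exists_preimage_pullback x y hxy
  refine ⟨h.isoPullback.inv q, ?_, ?_⟩
  · rw [← Scheme.Hom.comp_apply, h.isoPullback_inv_fst, hq1]
  · rw [← Scheme.Hom.comp_apply, h.isoPullback_inv_snd, hq2]

/-- The preimage of the image of a subset under a base change. -/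
theorem preimage_image {P X Y Z : Scheme.{u}} {fst : P ⟶ X} {snd : P ⟶ Y} {f : X ⟶ Z} {g : Y ⟶ Z}
    (h : IsPullback fst snd f g) (D : Set X) : g ⁻¹' (f '' D) = snd '' (fst ⁻¹' D) := by
  ext y
  constructor
  · rintro ⟨x, hx, hxy⟩
    obtain ⟨p, h1, h2⟩ := exists_point h x y hxy
    exact ⟨p, by change fst p ∈ D; rw [h1]; exact hx, h2⟩
  · rintro ⟨p, hp, rfl⟩
    exact ⟨fst p, hp, by rw [← Scheme.Hom.comp_apply, h.w, Scheme.Hom.comp_apply]⟩

/-- The local ring at a maximal point of a reduced scheme is a field. -/
theorem isField_stalk {T : Scheme.{u}} [IsReduced T] (η : T) (hη : ∀ t : T, t ⤳ η → t = η) :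
    IsField (T.presheaf.stalk η) := by
  have hu : ∀ p : PrimeSpectrum (T.presheaf.stalk η), p = IsLocalRing.closedPoint _ := by
    intro p
    have h1 : (T.fromSpecStalk η) p ∈ Set.range (T.fromSpecStalk η) := ⟨p, rfl⟩
    rw [Scheme.range_fromSpecStalk] at h1
    have h2 := hη _ h1
    apply (T.fromSpecStalk η).isEmbedding.injective
    rw [h2, Scheme.fromSpecStalk_closedPoint]
  have hred : _root_.IsReduced (T.presheaf.stalk η) := inferInstance
  have h3 : IsLocalRing.maximalIdeal (T.presheaf.stalk η) = ⊥ := by
    rw [eq_bot_iff]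
    intro a ha
    have h4 : a ∈ nilradical (T.presheaf.stalk η) := by
      rw [nilradical_eq_sInf, Submodule.mem_sInf]
      intro p hp
      have := hu ⟨p, hp⟩
      have h5 : p = IsLocalRing.maximalIdeal (T.presheaf.stalk η) := congrArg PrimeSpectrum.asIdeal this
      rw [h5]; exact ha
    rw [nilradical_eq_zero] at h4
    exact h4
  exact (IsLocalRing.isField_iff_maximalIdeal_eq).2 h3

theorem flat_of_isField {R S : Type*} [CommRing R] [CommRing S] (h : IsField R) (f : R →+* S) :
    f.Flat := by
  let := h.toField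
  let : Algebra R S := f.toAlgebra
  have : @Module.Flat R S _ _ _ := inferInstance
  exact this

/-- The spectrum of the residue field of a maximal point of a reduced scheme is flat over it. -/
theorem flat_fromSpecResidueField {T : Scheme.{u}} [IsReduced T] (η : T)
    (hη : ∀ t : T, t ⤳ η → t = η) : Flat (T.fromSpecResidueField η) := by
  refine Flat.of_stalkMap _ fun x => ?_
  have hx : (T.fromSpecResidueField η) x = η := by
    have : (T.fromSpecResidueField η) x ∈ Set.range (T.fromSpecResidueField η) := ⟨x, rfl⟩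
    rwa [Scheme.range_fromSpecResidueField] at this
  have hf : IsField (T.presheaf.stalk ((T.fromSpecResidueField η) x)) := by
    rw [hx]
    exact isField_stalk η hη
  exact flat_of_isField hf _

/-- The orbit of a maximal point of a reduced invariant closed subscheme maps flatly to it. -/
theorem exists_flat_orbit {U R C' : Scheme.{u}} (s t : R ⟶ U) [Smooth s] [Smooth t] (i : C' ⟶ U)
    [IsClosedImmersion i] [IsReduced C'] (hinv : s ⁻¹' Set.range i = t ⁻¹' Set.range i) (η : C')
    (hη : ∀ x : C', x ⤳ η → x = η) :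
    ∃ σ : pullback t (C'.fromSpecResidueField η ≫ i) ⟶ C', Flat σ ∧
      σ ≫ i = pullback.fst _ _ ≫ s := by
  have hr1 : Set.range (pullback.fst t i) = t ⁻¹' Set.range i := Scheme.Pullback.range_fst _ _
  have hr2 : Set.range (pullback.fst s i) = s ⁻¹' Set.range i := Scheme.Pullback.range_fst _ _
  have hP : IsReduced (pullback t i) :=
    Groth.Agent.Etcore.SmoothRed.isReduced_of_smooth (pullback.snd t i)
  have hQ : IsReduced (pullback s i) :=
    Groth.Agent.Etcore.SmoothRed.isReduced_of_smooth (pullback.snd s i)
  obtain ⟨e, he⟩ := Groth.Agent.Ega1.ReducedSub.exists_iso_of_range_eq (pullback.fst t i)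
    (pullback.fst s i) (by rw [hr1, hr2, hinv])
  let ε := C'.fromSpecResidueField η
  have hε : Flat ε := flat_fromSpecResidueField η hη
  let k : pullback t (ε ≫ i) ⟶ pullback t i :=
    pullback.lift (pullback.fst _ _) (pullback.snd _ _ ≫ ε) (by rw [pullback.condition, Category.assoc])
  have hk1 : k ≫ pullback.fst t i = pullback.fst t (ε ≫ i) := pullback.lift_fst _ _ _
  have hk2 : k ≫ pullback.snd t i = pullback.snd t (ε ≫ i) ≫ ε := pullback.lift_snd _ _ _
  have hsq : IsPullback k (pullback.snd t (ε ≫ i)) (pullback.snd t i) ε := by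
    refine IsPullback.of_right (h₁₂ := pullback.fst t i) (h₂₂ := i) (v₁₃ := t) ?_ hk2
      (IsPullback.of_hasPullback t i)
    rw [hk1]
    exact IsPullback.of_hasPullback t (ε ≫ i)
  have hkf : Flat k := MorphismProperty.of_isPullback hsq.flip hε
  refine ⟨k ≫ e.hom ≫ pullback.snd s i, inferInstance, ?_⟩
  rw [Category.assoc, Category.assoc, ← pullback.condition, reassoc_of% he, reassoc_of% hk1]

/-- Points of a scheme integral over a field are closed. -/
theorem isClosed_singleton {X : Scheme.{u}} {K : CommRingCat.{u}} (hK : IsField K) (f : X ⟶ Spec K)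
    [IsIntegralHom f] (x : X) : IsClosed ({x} : Set X) := by
  have : IsAffine X := isAffine_of_isAffineHom f
  obtain ⟨φ, hφ⟩ := Spec.map_surjective (X.isoSpec.inv ≫ f)
  have h1 : IsIntegralHom (Spec.map φ) := by rw [hφ]; infer_instance
  have h2 : φ.hom.IsIntegral := IsIntegralHom.SpecMap_iff.1 h1
  have h3 : IsClosed ({X.isoSpec.hom x} : Set (Spec Γ(X, ⊤))) := by
    have h4 : IsClosed ({X.isoSpec.hom x} : Set (PrimeSpectrum Γ(X, ⊤))) := by
      rw [PrimeSpectrum.isClosed_singleton_iff_isMaximal]
      algebraize [φ.hom]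
      have hI : Algebra.IsIntegral K Γ(X, ⊤) := ⟨h2⟩
      refine Ideal.isMaximal_of_isIntegral_of_isMaximal_comap (R := K) _ ?_
      let := hK.toField
      let q : PrimeSpectrum Γ(X, ⊤) := X.isoSpec.hom x
      have hq := q.isPrime
      have hp : (Ideal.comap (algebraMap K Γ(X, ⊤)) q.asIdeal).IsPrime := Ideal.IsPrime.comap _
      have hb : Ideal.comap (algebraMap K Γ(X, ⊤)) q.asIdeal = ⊥ := Ideal.eq_bot_of_prime _
      change (Ideal.comap (algebraMap K Γ(X, ⊤)) q.asIdeal).IsMaximal
      rw [hb]
      exact Ideal.bot_isMaximal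
    exact h4
  have h5 : ({x} : Set X) = X.isoSpec.hom ⁻¹' {X.isoSpec.hom x} := by
    ext y
    simp only [Set.mem_singleton_iff, Set.mem_preimage]
    exact (X.isoSpec.hom.homeomorph.injective.eq_iff).symm
  rw [h5]
  exact h3.preimage X.isoSpec.hom.continuous

/-- The image in the relative normalization of a subset invariant under a smooth groupoid and lying
over an orbit closure is closed. -/
theorem isClosed_image_toNormalization {U V R VR : Scheme.{u}} [IsAffine U] [IsAffine R] (f : V ⟶ U)
    [LocallyQuasiFinite f] [LocallyOfFiniteType f] [IsSeparated f] [QuasiCompact f] (s t : R ⟶ U) [Smooth s]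
    [Smooth t] (r : VR ⟶ R) (a b : VR ⟶ V) (ha : IsPullback a r f s) (hb : IsPullback b r f t)
    (C : Set U) (hC : IsClosed C) (hinv : s ⁻¹' C = t ⁻¹' C) (η : U) (hη : η ∈ C) (hmax : ∀ x ∈ C, x ⤳ η → x = η)
    (hrel : ∀ x ∈ C, ∃ z : R, s z = x ∧ t z = η) (D : Set V) (hDC : D ⊆ f ⁻¹' C) (hD : a ⁻¹' D = b ⁻¹' D) :
    IsClosed (f.toNormalization '' D) := by
  -- the reduced closed subscheme `C`
  let I : U.IdealSheafData := Scheme.IdealSheafData.vanishingIdeal ⟨C, hC⟩
  have hred : IsReduced I.subscheme :=
    Groth.Agent.Ega1.ReducedSub.isReduced_subscheme_vanishingIdeal _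
  let i : I.subscheme ⟶ U := I.subschemeι
  have hi : Set.range i = C := by
    change Set.range I.subschemeι = C
    rw [Scheme.IdealSheafData.range_subschemeι, Scheme.IdealSheafData.coe_support_vanishingIdeal]
    rfl
  obtain ⟨η', hη'⟩ : ∃ η' : I.subscheme, i η' = η := by rw [← Set.mem_range, hi]; exact hη
  have hm' : ∀ x : I.subscheme, x ⤳ η' → x = η' := by
    intro x hx
    apply i.isClosedEmbedding.injective
    rw [hη']
    refine hmax _ (by rw [← hi]; exact ⟨x, rfl⟩) ?_
    rw [← hη']
    exact hx.map i.continuous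
  obtain ⟨σ, hσ, hσi⟩ := exists_flat_orbit s t i (by rw [hi, hinv]) η' hm'
  let ε := I.subscheme.fromSpecResidueField η' ≫ i
  have hε : Set.range ε = {η} := by
    have h1 : Set.range (I.subscheme.fromSpecResidueField η') = {η'} :=
      Scheme.range_fromSpecResidueField _
    change Set.range (I.subscheme.fromSpecResidueField η' ≫ i) = {η}
    rw [Scheme.Hom.comp_base, TopCat.coe_comp, Set.range_comp]
    erw [h1]
    rw [Set.image_singleton]
    exact congrArg _ hη'
  -- `σ` is surjective
  have hσs : Surjective σ := by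
    refine ⟨fun x => ?_⟩
    obtain ⟨z, hz1, hz2⟩ := hrel (i x) (by rw [← hi]; exact ⟨x, rfl⟩)
    obtain ⟨y, hy⟩ : ∃ y, ε y = η := by
      have : η ∈ Set.range ε := by rw [hε]; rfl
      exact this
    obtain ⟨w, hw1, hw2⟩ := Scheme.Pullback.exists_preimage_pullback (f := t) (g := ε) z y
      (by rw [hz2, hy])
    refine ⟨w, ?_⟩
    apply i.isClosedEmbedding.injective
    rw [← hz1, ← hw1]
    rw [← Scheme.Hom.comp_apply, hσi, Scheme.Hom.comp_apply]
  let ρ : pullback t ε ⟶ R := pullback.fst t ε
  let τ := pullback.snd t ε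
  have hρτ : ρ ≫ t = τ ≫ ε := pullback.condition
  have hσi' : σ ≫ i = ρ ≫ s := hσi
  have haf : IsAffine (pullback t ε) := inferInstance
  have haf' : IsAffine I.subscheme := isAffine_of_isAffineHom i
  have hσq : QuasiCompact σ := inferInstance
  -- base change of the normalization
  have hrq : QuasiCompact r := MorphismProperty.of_isPullback ha (inferInstance : QuasiCompact f)
  have hrs : QuasiSeparated r := MorphismProperty.of_isPullback ha (inferInstance : QuasiSeparated f)
  obtain ⟨cs, hcs, hcs'⟩ := exists_isPullback f s r a ha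
  obtain ⟨ct, hct, hct'⟩ := exists_isPullback f t r b hb
  let ν := f.fromNormalization
  let E : Set f.normalization := f.toNormalization '' D
  have hs1 : IsPullback a r.toNormalization f.toNormalization cs := by
    refine IsPullback.of_bot (v₂₁ := r.fromNormalization) (v₂₂ := f.fromNormalization) (h₃₁ := s)
      ?_ hcs'.symm hcs
    rw [Scheme.Hom.toNormalization_fromNormalization, Scheme.Hom.toNormalization_fromNormalization]
    exact ha
  have ht1 : IsPullback b r.toNormalization f.toNormalization ct := by
    refine IsPullback.of_bot (v₂₁ := r.fromNormalization) (v₂₂ := f.fromNormalization) (h₃₁ := t)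
      ?_ hct'.symm hct
    rw [Scheme.Hom.toNormalization_fromNormalization, Scheme.Hom.toNormalization_fromNormalization]
    exact hb
  have hEE : cs ⁻¹' E = ct ⁻¹' E := by
    rw [preimage_image hs1, preimage_image ht1, hD]
  -- the covering `W` of the preimage of `C`
  let w1 := pullback.fst (pullback.snd ν i) σ
  let w2 := pullback.snd (pullback.snd ν i) σ
  let w := w1 ≫ pullback.fst ν i
  have hw : w ≫ ν = (w2 ≫ ρ) ≫ s := by
    rw [Category.assoc, pullback.condition, Category.assoc, ← hσi', ← Category.assoc,
      ← Category.assoc]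
    congr 1
    exact pullback.condition
  let m : pullback (pullback.snd ν i) σ ⟶ r.normalization := hcs.lift w (w2 ≫ ρ) hw
  have hm1 : m ≫ cs = w := hcs.lift_fst _ _ _
  have hm2 : m ≫ r.fromNormalization = w2 ≫ ρ := hcs.lift_snd _ _ _
  let n : pullback (pullback.snd ν i) σ ⟶ pullback ν ε := pullback.lift (m ≫ ct) (w2 ≫ τ) (by
    rw [Category.assoc, hct.w, reassoc_of% hm2, hρτ, Category.assoc])
  have hn : n ≫ pullback.fst ν ε = m ≫ ct := pullback.lift_fst _ _ _
  -- the image over `η` is finite
  have hfin : (pullback.fst ν ε ⁻¹' E).Finite := by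
    have h1 : pullback.fst ν ε ⁻¹' E ⊆ pullback.fst ν ε ⁻¹' (f.toNormalization '' (f ⁻¹' {η})) := by
      rintro x ⟨d, hd, hx⟩
      refine ⟨d, ?_, hx⟩
      have h2 : f d = ε (pullback.snd ν ε x) := by
        rw [← Scheme.Hom.comp_apply, ← pullback.condition, Scheme.Hom.comp_apply, ← hx,
          ← Scheme.Hom.comp_apply, Scheme.Hom.toNormalization_fromNormalization]
      have h3 : ε (pullback.snd ν ε x) ∈ Set.range ε := ⟨_, rfl⟩
      rw [hε] at h3
      rw [Set.mem_preimage, h2]
      exact h3
    refine Set.Finite.subset (Set.Finite.preimage ?_ ((f.finite_preimage_singleton η).image _)) h1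
    exact (pullback.fst ν ε).isEmbedding.injective.injOn
  have hcl : IsClosed (pullback.fst ν ε ⁻¹' E) := by
    rw [← Set.biUnion_of_singleton (pullback.fst ν ε ⁻¹' E)]
    refine hfin.isClosed_biUnion fun x _ => ?_
    have h2 : IsIntegralHom (pullback.snd ν ε) := MorphismProperty.pullback_snd _ _ inferInstance
    exact isClosed_singleton (Field.toIsField _) (pullback.snd ν ε) x
  have hclW : IsClosed (w ⁻¹' E) := by
    have h1 : w ⁻¹' E = n ⁻¹' (pullback.fst ν ε ⁻¹' E) := by
      have h2 : w ⁻¹' E = m ⁻¹' (cs ⁻¹' E) := by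
        rw [← hm1]; rfl
      have h3 : n ⁻¹' (pullback.fst ν ε ⁻¹' E) = m ⁻¹' (ct ⁻¹' E) := by
        have h4 : (n ≫ pullback.fst ν ε) ⁻¹' E = (m ≫ ct) ⁻¹' E := by rw [hn]
        exact h4
      rw [h2, h3, hEE]
    rw [h1]
    exact hcl.preimage n.continuous
  -- descend
  have hw1f : Flat w1 := MorphismProperty.pullback_fst _ _ hσ
  have hw1s : Surjective w1 := MorphismProperty.pullback_fst _ _ hσs
  have hw1q : QuasiCompact w1 := MorphismProperty.pullback_fst _ _ hσq
  have hclN : IsClosed (pullback.fst ν i ⁻¹' E) := by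
    rw [← (Flat.isQuotientMap_of_surjective w1).isClosed_preimage]
    exact hclW
  have hE : E = pullback.fst ν i '' (pullback.fst ν i ⁻¹' E) := by
    rw [Set.image_preimage_eq_inter_range, eq_comm, Set.inter_eq_left]
    rw [Scheme.Pullback.range_fst, hi]
    rintro _ ⟨d, hd, rfl⟩
    rw [Set.mem_preimage, ← Scheme.Hom.comp_apply]
    have := hDC hd
    rwa [Set.mem_preimage, ← f.toNormalization_fromNormalization] at this
  change IsClosed E
  rw [hE]
  exact (pullback.fst ν i).isClosedEmbedding.isClosedMap _ hclN

end K563.NormCl
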