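import Mathlib
import Groth.Agent.CalgB.SmoothReduced
import Groth.Agent.StMod.K563.NormCl

/-!
Functions on the source of a morphism coming from functions on the relative normalization which vanish
on a closed subset, and smooth base change.
-/

set_option backward.isDefEq.respectTransparency false
set_option backward.isDefEq.respectTransparency.types false
set_option autoImplicit false

open CategoryTheory Limits AlgebraicGeometry TopologicalSpace TensorProduct

universe u

namespace K563.NormFun

/-- The extension of a radical ideal along a base change of a smooth algebra is radical. -/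
theorem isRadical_map {A At A' At' : Type u} [CommRing A] [CommRing At] [CommRing A'] [CommRing At']
    [Algebra A At] [Algebra A A'] [Algebra A' At'] [Algebra At At'] [Algebra A At']
    [IsScalarTower A At At'] [IsScalarTower A A' At'] [Algebra.IsPushout A At A' At']
    [Algebra.Smooth A A'] (I : Ideal At) (hI : I.IsRadical) : (I.map (algebraMap At At')).IsRadical := by
  have e := Algebra.IsPushout.equiv A At A' At'
  have h1 : Algebra.Smooth At At' := Algebra.Smooth.of_equiv e
  have h2 : IsReduced (At ⧸ I) := (Ideal.isRadical_iff_quotient_reduced _).mp hI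
  have h3 : Algebra.Smooth (At ⧸ I) ((At ⧸ I) ⊗[At] At') := inferInstance
  have h4 : IsReduced ((At ⧸ I) ⊗[At] At') :=
    Groth.Agent.CalgB.SmoothReduced.isReduced_of_smooth (At ⧸ I) _
  rw [Ideal.isRadical_iff_quotient_reduced]
  let e2 : (At ⧸ I) ⊗[At] At' ≃+* At' ⧸ I.map (algebraMap At At') := by
    exact ((Algebra.TensorProduct.comm At (At ⧸ I) At').toRingEquiv.trans
      (Algebra.TensorProduct.quotIdealMapEquivTensorQuot At' I).symm.toRingEquiv)
  exact isReduced_of_injective e2.symm.toRingHom e2.symm.injective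

/-- Elements of the extension of an ideal along a base change. -/
theorem exists_sum {A At A' At' : Type u} [CommRing A] [CommRing At] [CommRing A'] [CommRing At']
    [Algebra A At] [Algebra A A'] [Algebra A' At'] [Algebra At At'] [Algebra A At']
    [IsScalarTower A At At'] [IsScalarTower A A' At'] [Algebra.IsPushout A At A' At']
    (I : Ideal At) (x : At') (hx : x ∈ I.map (algebraMap At At')) :
    ∃ (n : ℕ) (r : Fin n → A') (y : Fin n → At), (∀ i, y i ∈ I) ∧
      x = ∑ i, algebraMap A' At' (r i) * algebraMap At At' (y i) := by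
  have hP : Algebra.IsPushout A A' At At' := Algebra.IsPushout.symm inferInstance
  have key : ∀ (t : At') (y : At), y ∈ I →
      t * algebraMap At At' y ∈ Submodule.span A' (algebraMap At At' '' (I : Set At)) := by
    intro t y hy
    obtain ⟨z, rfl⟩ := (Algebra.IsPushout.equiv A A' At At').surjective t
    induction z using TensorProduct.induction_on with
    | zero => simp
    | tmul a b =>
      rw [Algebra.IsPushout.equiv_tmul, mul_assoc, ← map_mul, ← Algebra.smul_def]
      exact Submodule.smul_mem _ _ (Submodule.subset_span ⟨b * y, I.mul_mem_left _ hy, rfl⟩)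
    | add a b ha hb =>
      rw [map_add, add_mul]
      exact Submodule.add_mem _ ha hb
  have hx' : x ∈ Submodule.span A' (algebraMap At At' '' (I : Set At)) := by
    rw [Ideal.map, Ideal.span, ← Submodule.mem_toAddSubmonoid, Submodule.span_eq_closure] at hx
    induction hx using AddSubmonoid.closure_induction with
    | mem z hz =>
      obtain ⟨t, -, _, ⟨y, hy, rfl⟩, rfl⟩ := hz
      exact key t y hy
    | zero => exact Submodule.zero_mem _
    | add a b _ _ ha hb => exact Submodule.add_mem _ ha hb
  rw [Submodule.mem_span_set'] at hx'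
  obtain ⟨n, f, g, hfg⟩ := hx'
  choose y hy hy' using fun i => (g i).2
  refine ⟨n, f, y, hy, ?_⟩
  rw [← hfg]
  refine Finset.sum_congr rfl fun i _ => ?_
  rw [hy' i, Algebra.smul_def]

/-- Categorical forms of `isRadical_map` and `exists_sum`. -/
theorem of_isPushout {A At A' At' : CommRingCat.{u}} {φ : A ⟶ At} {ψ : A ⟶ A'} {γ : At ⟶ At'}
    {δ : A' ⟶ At'} (H : IsPushout φ ψ γ δ) (hψ : ψ.hom.Smooth) (I : Ideal At) (hI : I.IsRadical) :
    (I.map γ.hom).IsRadical ∧ ∀ x ∈ I.map γ.hom,
      ∃ (n : ℕ) (r : Fin n → A') (y : Fin n → At), (∀ i, y i ∈ I) ∧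
      x = ∑ i, δ (r i) * γ (y i) := by
  algebraize [φ.hom, ψ.hom, γ.hom, δ.hom, (φ ≫ γ).hom]
  have hT1 : IsScalarTower A At At' := IsScalarTower.of_algebraMap_eq' rfl
  have hT2 : IsScalarTower A A' At' := IsScalarTower.of_algebraMap_eq' (congrArg CommRingCat.Hom.hom H.w)
  have hpo : Algebra.IsPushout A At A' At' :=
    (CommRingCat.isPushout_iff_isPushout (R := A) (S := A') (R' := At) (S' := At')).mp H
  exact ⟨isRadical_map (A := A) (A' := A') I hI, fun x hx => exists_sum (A := A) (A' := A') I x hx⟩

/-- Points of an affine scheme and prime ideals of global functions. -/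
theorem mem_basicOpen_iff {X : Scheme.{u}} (x : X) (g : Γ(X, ⊤)) :
    x ∈ X.basicOpen g ↔ g ∉ (X.toSpecΓ x).asIdeal := by
  rw [← Scheme.toSpecΓ_preimage_basicOpen]
  rfl

theorem toSpecΓ_apply {X Y : Scheme.{u}} (c : X ⟶ Y) (x : X) (g : Γ(Y, ⊤)) :
    g ∈ (Y.toSpecΓ (c x)).asIdeal ↔ c.appTop g ∈ (X.toSpecΓ x).asIdeal := by
  have := mem_basicOpen_iff (c x) g
  have h2 := mem_basicOpen_iff x (c.appTop g)
  have h3 : c x ∈ Y.basicOpen g ↔ x ∈ X.basicOpen (c.appTop g) := by
    rw [← Scheme.preimage_basicOpen_top]
    rfl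
  tauto

/-- Functions on the source of `f` which come from functions on the normalization vanishing on `Z`. -/
def N {V U : Scheme.{u}} (f : V ⟶ U) [QuasiCompact f] [QuasiSeparated f] (Z : Set f.normalization) : Set Γ(V, ⊤) :=
  {h | ∃ g : Γ(f.normalization, ⊤), f.toNormalization.appTop g = h ∧ ∀ z ∈ Z, z ∉ f.normalization.basicOpen g}

theorem span_N {V U V' U' : Scheme.{u}} [IsAffine U] [IsAffine U'] (f : V ⟶ U) [QuasiCompact f] [QuasiSeparated f]
    (f' : V' ⟶ U') [QuasiCompact f'] [QuasiSeparated f'] (a : V' ⟶ V) (b : U' ⟶ U) [Smooth b] (h : IsPullback a f' f b)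
    (c : f'.normalization ⟶ f.normalization) (hc₁ : f'.toNormalization ≫ c = a ≫ f.toNormalization)
    (hc₂ : c ≫ f.fromNormalization = f'.fromNormalization ≫ b) (Z : Set f.normalization) (hZ : IsClosed Z)
    (x : Γ(V', ⊤)) :
    x ∈ N f' (c ⁻¹' Z) ↔ ∃ (n : ℕ) (r : Fin n → Γ(U', ⊤)) (y : Fin n → Γ(V, ⊤)), (∀ i, y i ∈ N f Z) ∧
      x = ∑ i, f'.appTop (r i) * a.appTop (y i) := by
  -- the square of normalizations is cartesian
  obtain ⟨c₀, hc₀, hc₀'⟩ := NormCl.exists_isPullback f b f' a h
  have hcc : c = c₀ := by
    have e1 : pullback.lift c f'.fromNormalization hc₂ = pullback.lift c₀ f'.fromNormalization hc₀.w := by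
      refine Scheme.Hom.normalization.hom_ext f' _ _ (pullback.snd f.fromNormalization b) ?_ ?_ ?_
      · refine pullback.hom_ext ?_ ?_
        · simp only [Category.assoc, pullback.lift_fst, hc₁, hc₀']
        · simp only [Category.assoc, pullback.lift_snd]
      · exact pullback.lift_snd _ _ _
      · exact pullback.lift_snd _ _ _
    have e2 := congrArg (fun φ => φ ≫ pullback.fst f.fromNormalization b) e1
    simpa only [pullback.lift_fst] using e2
  subst hcc
  have hN : IsAffine f.normalization := isAffine_of_isAffineHom f.fromNormalization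
  have hN' : IsAffine f'.normalization := isAffine_of_isAffineHom f'.fromNormalization
  have hpo : IsPushout f.fromNormalization.appTop b.appTop c.appTop f'.fromNormalization.appTop :=
    isPushout_appTop_of_isPullback hc₀
  have hcom (r : Γ(U', ⊤)) : f'.toNormalization.appTop (f'.fromNormalization.appTop r) = f'.appTop r := by
    rw [← CommRingCat.comp_apply, ← Scheme.Hom.comp_appTop, Scheme.Hom.toNormalization_fromNormalization]
  have hcom2 (g : Γ(f.normalization, ⊤)) :
      f'.toNormalization.appTop (c.appTop g) = a.appTop (f.toNormalization.appTop g) := by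
    rw [← CommRingCat.comp_apply, ← CommRingCat.comp_apply, ← Scheme.Hom.comp_appTop,
      ← Scheme.Hom.comp_appTop, hc₁]
  let I : Ideal Γ(f.normalization, ⊤) := PrimeSpectrum.vanishingIdeal (f.normalization.toSpecΓ '' Z)
  have hI (g : Γ(f.normalization, ⊤)) : g ∈ I ↔ ∀ z ∈ Z, z ∉ f.normalization.basicOpen g := by
    rw [PrimeSpectrum.mem_vanishingIdeal]
    constructor
    · intro H z hz
      rw [mem_basicOpen_iff, not_not]
      exact H _ ⟨z, hz, rfl⟩
    · rintro H _ ⟨z, hz, rfl⟩
      have := H z hz
      rwa [mem_basicOpen_iff, not_not] at this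
  constructor
  · rintro ⟨g', rfl, hg'⟩
    have hsm : b.appTop.hom.Smooth := by
      have := b.smooth_appLE (isAffineOpen_top U)
        (show IsAffineOpen (b ⁻¹ᵁ ⊤) from isAffineOpen_top U') le_rfl
      rwa [Scheme.Hom.appLE_eq_app] at this
    have hrad : I.IsRadical := PrimeSpectrum.isRadical_vanishingIdeal _
    obtain ⟨hrad', hsum⟩ := of_isPushout hpo hsm I hrad
    have hmem : g' ∈ I.map c.appTop.hom := by
      rw [← hrad'.radical, Ideal.radical_eq_sInf, Submodule.mem_sInf]
      rintro P ⟨hP, hPp⟩
      let P' : PrimeSpectrum Γ(f'.normalization, ⊤) := ⟨P, hPp⟩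
      obtain ⟨z', hz'⟩ : ∃ z', f'.normalization.toSpecΓ z' = P' :=
        f'.normalization.toSpecΓ.homeomorph.surjective P'
      have hzZ : c z' ∈ Z := by
        have hcl : f.normalization.toSpecΓ (c z') ∈ f.normalization.toSpecΓ '' Z := by
          have hZ' : IsClosed (f.normalization.toSpecΓ '' Z) :=
            f.normalization.toSpecΓ.homeomorph.isClosedMap _ hZ
          rw [← hZ'.closure_eq, ← PrimeSpectrum.zeroLocus_vanishingIdeal_eq_closure]
          rw [PrimeSpectrum.mem_zeroLocus]
          intro g hg
          change g ∈ (f.normalization.toSpecΓ (c z')).asIdeal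
          rw [toSpecΓ_apply, hz']
          exact hP (Ideal.mem_map_of_mem _ hg)
        obtain ⟨z, hz, hzz⟩ := hcl
        rwa [f.normalization.toSpecΓ.homeomorph.injective hzz] at hz
      have := hg' z' hzZ
      rw [mem_basicOpen_iff, not_not, hz'] at this
      exact this
    obtain ⟨n, r, y, hy, hxy⟩ := hsum g' hmem
    refine ⟨n, r, fun i => f.toNormalization.appTop (y i), fun i => ⟨y i, rfl, (hI _).1 (hy i)⟩, ?_⟩
    rw [hxy, map_sum]
    refine Finset.sum_congr rfl fun i _ => ?_
    rw [map_mul, ← hcom, ← hcom2]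
  · rintro ⟨n, r, y, hy, rfl⟩
    choose g hg1 hg2 using hy
    refine ⟨∑ i, f'.fromNormalization.appTop (r i) * c.appTop (g i), ?_, ?_⟩
    · rw [map_sum]
      refine Finset.sum_congr rfl fun i _ => ?_
      rw [map_mul, hcom, hcom2, hg1]
    · intro z hz
      rw [mem_basicOpen_iff, not_not]
      refine Ideal.sum_mem _ fun i _ => Ideal.mul_mem_left _ _ ?_
      rw [← toSpecΓ_apply]
      have := hg2 i (c z) hz
      rwa [mem_basicOpen_iff, not_not] at this

end K563.NormFun
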